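import Cfsg.Agent.Lib.SectionGalois.Kernel
import Cfsg.Agent.Lib.Characters.Galois
import Cfsg.Agent.Lib.Blk7.KleinFour

/-!
# The trace of a Galois twist on a block

If `k` is prime to `|G|` and fixes the elements of order prime to `p`, then the number of
characters in a block fixed by `χ ↦ χ (· ^ k)` is at least the `p`-regular rank of the block.
-/

set_option autoImplicit false
set_option linter.unusedSectionVars false
set_option linter.style.haveILetI false

noncomputable section

namespace CfsgLib.SectionGalois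

open Cfsg CfsgLib.Blocks CfsgLib.Characters CfsgLib.Blk7
open scoped Classical ComplexConjugate

universe u

variable {G : Type u} [Group G] [Fintype G] {p : ℕ} [hp : Fact p.Prime] {M : Ideal AlgInt}

/-- The sum over a block on two elements of one `p`-section, read off in the centralizer. -/
theorem section_kernel (hM : IsPModular p M) {B : Set (IrrCharacter G)} (hB : IsPBlock M B)
    {u : G} (hu : ∃ k : ℕ, orderOf u = p ^ k)
    (a b : Subgroup.centralizer ({u} : Set G)) (ha : ¬ p ∣ orderOf a) (hb : ¬ p ∣ orderOf b) :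
    ∑ χ ∈ Finset.univ.filter (· ∈ B),
        (χ : G → ℂ) (u * (a : G)) * conj ((χ : G → ℂ) (u * (b : G))) =
      ∑ ξ ∈ Finset.univ.filter (· ∈ inducing M u B),
        (ξ : Subgroup.centralizer ({u} : Set G) → ℂ) a *
          conj ((ξ : Subgroup.centralizer ({u} : Set G) → ℂ) b) := by
  let C := Subgroup.centralizer ({u} : Set G)
  set T := inducing M u B
  set w : IrrCharacter G → ℂ := fun χ => conj ((χ : G → ℂ) (u * (b : G)))
  set v : IrrCharacter C → ℂ := fun ξ => conj ((ξ : C → ℂ) b)
  set L := ∑ χ ∈ Finset.univ.filter (· ∈ B), w χ • regPart p (sectionFun u (χ : G → ℂ))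
  set L' := ∑ χ ∈ Finset.univ.filter (· ∉ B), w χ • regPart p (sectionFun u (χ : G → ℂ))
  set R := ∑ ξ ∈ Finset.univ.filter (· ∈ T), v ξ • regPart p (ξ : C → ℂ)
  set R' := ∑ ξ ∈ Finset.univ.filter (· ∉ T), v ξ • regPart p (ξ : C → ℂ)
  have hL : L ∈ regSpan p T := Submodule.sum_mem _ fun χ hχ =>
    Submodule.smul_mem _ _ ((section_mem hM hu hB χ).1 (Finset.mem_filter.1 hχ).2)
  have hL' : L' ∈ regSpan p Tᶜ := Submodule.sum_mem _ fun χ hχ =>
    Submodule.smul_mem _ _ ((section_mem hM hu hB χ).2 (Finset.mem_filter.1 hχ).2)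
  have hR : R ∈ regSpan p T := Submodule.sum_mem _ fun ξ hξ =>
    Submodule.smul_mem _ _ (Submodule.subset_span ⟨ξ, (Finset.mem_filter.1 hξ).2, rfl⟩)
  have hR' : R' ∈ regSpan p Tᶜ := Submodule.sum_mem _ fun ξ hξ =>
    Submodule.smul_mem _ _ (Submodule.subset_span ⟨ξ, (Finset.mem_filter.1 hξ).2, rfl⟩)
  have htot : L + L' = R + R' := by
    simp only [L, L', R, R', Finset.sum_filter_add_sum_filter_not]
    funext c
    simp only [Finset.sum_apply, Pi.smul_apply, smul_eq_mul]
    by_cases hc : p ∣ orderOf c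
    · have hz : ∀ f : C → ℂ, regPart p f c = 0 := fun f => by
        show pRegularPart p f c = 0
        rw [pRegularPart_apply, if_neg fun h => h hc]
      simp [hz]
    · simp only [regPart_apply_of_regular hc, sectionFun, w, v]
      have e1 := column_orth (u * (c : G)) (u * (b : G))
      have e2 := column_orth c b
      have hcu : Commute u (c : G) := commute_centralizer c
      have hbu : Commute u (b : G) := commute_centralizer b
      have hiff : IsConj (u * (c : G)) (u * (b : G)) ↔ IsConj c b := by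
        refine ⟨fun h => ?_, fun h => ?_⟩
        · obtain ⟨d, hd⟩ := isConj_iff.1 h
          have h1 := IsPPart.conj (isPPart_mul hcu hu (by rwa [Subgroup.orderOf_coe]) :
            IsPPart p (u * (c : G)) u) d
          rw [hd] at h1
          have h2 : d * u * d⁻¹ = u := IsPPart.unique hM.1 h1
            (isPPart_mul hbu hu (by rwa [Subgroup.orderOf_coe]))
          have hdC : d ∈ C := Subgroup.mem_centralizer_singleton_iff.2 (mul_inv_eq_iff_eq_mul.1 h2)
          refine isConj_iff.2 ⟨⟨d, hdC⟩, Subtype.ext ?_⟩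
          show d * (c : G) * d⁻¹ = b
          have h3 : d * (u * c) * d⁻¹ = (d * u * d⁻¹) * (d * c * d⁻¹) := by group
          rw [h3, h2] at hd
          exact mul_left_cancel hd
        · obtain ⟨d, hd⟩ := isConj_iff.1 h
          refine isConj_iff.2 ⟨d, ?_⟩
          have h2 : (d : G) * u * (d : G)⁻¹ = u :=
            mul_inv_eq_iff_eq_mul.2 (Subgroup.mem_centralizer_singleton_iff.1 d.2)
          calc (d : G) * (u * c) * (d : G)⁻¹
              = ((d : G) * u * (d : G)⁻¹) * ((d : G) * c * (d : G)⁻¹) := by group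
            _ = u * b := by rw [h2, ← hd]; rfl
      have hcard : Nat.card (Subgroup.centralizer ({u * (c : G)} : Set G)) =
          Nat.card (Subgroup.centralizer ({c} : Set C)) := by
        have hle : ∀ d : G, d * (u * c) = (u * c) * d → d ∈ C := by
          intro d hd
          have h1 := IsPPart.conj (isPPart_mul hcu hu (by rwa [Subgroup.orderOf_coe]) :
            IsPPart p (u * (c : G)) u) d
          rw [show d * (u * (c : G)) * d⁻¹ = u * c from mul_inv_eq_iff_eq_mul.2 hd] at h1
          exact Subgroup.mem_centralizer_singleton_iff.2 (mul_inv_eq_iff_eq_mul.1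
            (IsPPart.unique hM.1 h1 (isPPart_mul hcu hu (by rwa [Subgroup.orderOf_coe]))))
        refine Nat.card_congr
          ⟨fun d => ⟨⟨d.1, hle d.1 (Subgroup.mem_centralizer_singleton_iff.1 d.2)⟩, ?_⟩,
            fun d => ⟨d.1.1, ?_⟩, fun d => rfl, fun d => rfl⟩
        · have hd := Subgroup.mem_centralizer_singleton_iff.1 d.2
          have hdu := Subgroup.mem_centralizer_singleton_iff.1 (hle d.1 hd)
          rw [Subgroup.mem_centralizer_singleton_iff]
          refine Subtype.ext (mul_left_cancel (a := u) ?_)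
          show u * (d.1 * (c : G)) = u * ((c : G) * d.1)
          rw [← mul_assoc, ← hdu, mul_assoc, hd, mul_assoc]
        · have hd := congrArg Subtype.val (Subgroup.mem_centralizer_singleton_iff.1 d.2)
          have hdu := Subgroup.mem_centralizer_singleton_iff.1 d.1.2
          rw [Subgroup.mem_centralizer_singleton_iff, ← mul_assoc, hdu, mul_assoc, mul_assoc]
          exact congrArg (u * ·) hd
      simp only [mul_comm (conj _)]
      rw [e1, e2, hcard]
      exact if_congr hiff rfl rfl
  have hLR : L = R := by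
    rw [← sub_eq_zero, ← Submodule.mem_bot ℂ,
      ← regSpan_disjoint hM (inducing_not_sameBlock hM u B)]
    refine ⟨Submodule.sub_mem _ hL hR, ?_⟩
    rw [show L - R = R' - L' by rw [sub_eq_sub_iff_add_eq_add, htot, add_comm]]
    exact Submodule.sub_mem _ hR' hL'
  have h := congrFun hLR a
  simp only [L, R, Finset.sum_apply, Pi.smul_apply, smul_eq_mul, regPart_apply_of_regular ha,
    sectionFun, w, v] at h
  simpa [mul_comm] using h

/-- The twisted block sum over one `p`-section is a natural multiple of the centralizer order. -/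
theorem section_sum (hM : IsPModular p M) {B : Set (IrrCharacter G)} (hB : IsPBlock M B) {k : ℕ}
    (hreg : ∀ g : G, ¬ p ∣ orderOf g → g ^ k = g) {u : G} (hu : ∃ j : ℕ, orderOf u = p ^ j) :
    ∃ N : ℕ, (u = 1 → blockRank p B ≤ N) ∧
      (∑ c ∈ Finset.univ.filter
        (fun c : Subgroup.centralizer ({u} : Set G) => ¬ p ∣ orderOf c),
          ∑ χ ∈ Finset.univ.filter (· ∈ B),
            (χ : G → ℂ) ((u * (c : G)) ^ k) * conj ((χ : G → ℂ) (u * (c : G)))) =
        (Nat.card (Subgroup.centralizer ({u} : Set G)) : ℂ) * N := by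
  haveI : M.IsMaximal := hM.2.1
  let C := Subgroup.centralizer ({u} : Set G)
  have hpow : ∀ c : C, ¬ p ∣ orderOf c → (u * (c : G)) ^ k = u ^ k * c := fun c hc => by
    rw [(commute_centralizer c).mul_pow, hreg (c : G) (by rwa [Subgroup.orderOf_coe])]
  by_cases hconj : IsConj u (u ^ k)
  · obtain ⟨d, hd, hd1⟩ : ∃ d : G, d * u * d⁻¹ = u ^ k ∧ (u = 1 → d = 1) := by
      by_cases h1 : u = 1
      · exact ⟨1, by simp [h1], fun _ => rfl⟩
      · exact (isConj_iff.1 hconj).imp fun d hd => ⟨hd, fun h => absurd h h1⟩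
    have hmem : ∀ c : G, c ∈ C → d⁻¹ * c * d ∈ C := by
      intro c hc
      rw [Subgroup.mem_centralizer_singleton_iff] at hc ⊢
      have h2 : Commute c (d * u * d⁻¹) := hd ▸ Commute.pow_right hc k
      calc d⁻¹ * c * d * u = d⁻¹ * (c * (d * u * d⁻¹)) * d := by group
        _ = d⁻¹ * ((d * u * d⁻¹) * c) * d := by rw [h2.eq]
        _ = u * (d⁻¹ * c * d) := by group
    let f : C →* C :=
      { toFun := fun c => ⟨d⁻¹ * (c : G) * d, hmem c c.2⟩
        map_one' := Subtype.ext (by simp)
        map_mul' := fun a b => Subtype.ext (by simp only [Subgroup.coe_mul]; group) }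
    have hinj : Function.Injective f := fun a b hab => by
      have := congrArg Subtype.val hab
      exact Subtype.ext (mul_left_cancel (mul_right_cancel this))
    let α : C ≃* C := MulEquiv.ofBijective f ⟨hinj, Finite.injective_iff_surjective.1 hinj⟩
    obtain ⟨N, hN, hN1⟩ := twisted_kernel_sum hM
      (A := inducing M u B) (fun ξ η hξ h => inducing_closed hM u B hξ h) α
    refine ⟨N, fun h1 => ?_, ?_⟩
    · subst h1
      rw [hN1 fun c => Subtype.ext (by
        show d⁻¹ * (c : G) * d = c
        simp [hd1 rfl])]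
      exact le_of_eq (finrank_regSpan_inducing_one hM hB).symm
    · rw [← hN]
      refine Finset.sum_congr rfl fun c hc => ?_
      have hcr := (Finset.mem_filter.1 hc).2
      rw [← section_kernel hM hB hu (α c) c (by rwa [MulEquiv.orderOf_eq]) hcr]
      refine Finset.sum_congr rfl fun χ _ => ?_
      rw [hpow c hcr, classFunction_eq_of_isConj (irr_isClassFunction χ)
        (isConj_iff.2 ⟨d, ?_⟩ : IsConj (u * ((α c : C) : G)) (u ^ k * c))]
      show d * (u * (d⁻¹ * (c : G) * d)) * d⁻¹ = u ^ k * c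
      rw [← hd]; group
  · refine ⟨0, fun h1 => absurd (by rw [h1, one_pow]) hconj, ?_⟩
    rw [Nat.cast_zero, mul_zero]
    refine Finset.sum_eq_zero fun c hc => ?_
    have hcr := (Finset.mem_filter.1 hc).2
    have hcr' : ¬ p ∣ orderOf (c : G) := by rwa [Subgroup.orderOf_coe]
    have hpart : IsPPart p (u * (c : G)) u := isPPart_mul (commute_centralizer c) hu hcr'
    obtain ⟨j, hj⟩ := hu
    have hpartk : IsPPart p ((u * (c : G)) ^ k) (u ^ k) := by
      rw [hpow c hcr]
      refine isPPart_mul ((commute_centralizer c).pow_left k) ?_ hcr'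
      obtain ⟨i, -, hi⟩ := (Nat.dvd_prime_pow hM.1).1 (hj ▸ orderOf_pow_dvd k)
      exact ⟨i, hi⟩
    rw [← sum_block_eq_zero_of_not_isConj hM hB hpartk hpart fun h => hconj h.symm]
    exact Finset.sum_congr rfl fun χ _ => by rw [irr_apply_inv]

/-- The characters of a block fixed by the twist are at least `l(B)` many. -/
theorem blockRank_le_card_fixed (hM : IsPModular p M) {B : Set (IrrCharacter G)}
    (hB : IsPBlock M B) {k : ℕ} (hk : k.Coprime (Nat.card G))
    (hreg : ∀ g : G, ¬ p ∣ orderOf g → g ^ k = g) :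
    blockRank p B ≤
      Nat.card {χ : IrrCharacter G // χ ∈ B ∧ ∀ g : G, (χ : G → ℂ) (g ^ k) = (χ : G → ℂ) g} := by
  haveI : M.IsMaximal := hM.2.1
  set F : G → ℂ := fun g =>
    ∑ χ ∈ Finset.univ.filter (· ∈ B), (χ : G → ℂ) (g ^ k) * conj ((χ : G → ℂ) g)
  let pp : G → G := fun g => (exists_isPPart hM.1 g).choose
  have hpp : ∀ g, IsPPart p g (pp g) := fun g => (exists_isPPart hM.1 g).choose_spec
  set S : Finset G := Finset.univ.filter fun u => ∃ j : ℕ, orderOf u = p ^ j with hS
  have hfib : ∀ u ∈ S, ∑ g ∈ Finset.univ.filter (fun g => pp g = u), F g =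
      ∑ c ∈ Finset.univ.filter
        (fun c : Subgroup.centralizer ({u} : Set G) => ¬ p ∣ orderOf c), F (u * (c : G)) := by
    intro u huS
    have hu := (Finset.mem_filter.1 huS).2
    symm
    refine Finset.sum_bij
      (fun (c : Subgroup.centralizer ({u} : Set G))
        (_ : c ∈ Finset.univ.filter
          (fun c : Subgroup.centralizer ({u} : Set G) => ¬ p ∣ orderOf c)) => u * (c : G))
      ?_ ?_ ?_ (fun c _ => rfl)
    · intro c hc
      refine Finset.mem_filter.2 ⟨Finset.mem_univ _, IsPPart.unique hM.1 (hpp _)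
        (isPPart_mul (commute_centralizer c) hu ?_)⟩
      rw [Subgroup.orderOf_coe]
      exact (Finset.mem_filter.1 hc).2
    · intro c _ c' _ h
      exact Subtype.ext (mul_left_cancel h)
    · intro g hg
      obtain ⟨y, hy, hxy, -, hyp⟩ := hpp g
      rw [(Finset.mem_filter.1 hg).2] at hy hxy
      refine ⟨⟨y, Subgroup.mem_centralizer_singleton_iff.2 hxy.symm.eq⟩,
        Finset.mem_filter.2 ⟨Finset.mem_univ _, ?_⟩, hy⟩
      rw [← Subgroup.orderOf_coe]
      exact hyp
  have hsec : ∀ u ∈ S, ∃ N : ℕ, (u = 1 → blockRank p B ≤ N) ∧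
      (∑ c ∈ Finset.univ.filter
        (fun c : Subgroup.centralizer ({u} : Set G) => ¬ p ∣ orderOf c), F (u * (c : G))) =
        (Nat.card (Subgroup.centralizer ({u} : Set G)) : ℂ) * N :=
    fun u huS => section_sum hM hB hreg (Finset.mem_filter.1 huS).2
  have htotal : (Nat.card G : ℂ) * (Nat.card
      {χ : IrrCharacter G // χ ∈ B ∧ ∀ g : G, (χ : G → ℂ) (g ^ k) = (χ : G → ℂ) g} : ℂ) =
      ∑ g : G, F g := by
    rw [Nat.card_eq_fintype_card (α := {χ : IrrCharacter G // _}), Fintype.card_subtype,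
      ← Finset.filter_filter (fun χ : IrrCharacter G => χ ∈ B)
        (fun χ : IrrCharacter G => ∀ g : G, (χ : G → ℂ) (g ^ k) = (χ : G → ℂ) g),
      Finset.card_filter, Nat.cast_sum, Finset.mul_sum, Finset.sum_comm]
    refine Finset.sum_congr rfl fun χ _ => ?_
    have hirr := CharGalois.isIrrCharacter_pow χ.2 hk
    have h0 : (Nat.card G : ℂ) * classInner (fun g => (χ : G → ℂ) (g ^ k)) (χ : G → ℂ) =
        ∑ g : G, (χ : G → ℂ) (g ^ k) * conj ((χ : G → ℂ) g) := by
      rw [classInner, mul_inv_cancel_left₀ (Nat.cast_ne_zero.2 Nat.card_pos.ne')]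
    rw [← h0]
    congr 1
    by_cases h : ∀ g : G, (χ : G → ℂ) (g ^ k) = (χ : G → ℂ) g
    · rw [if_pos h, show (fun g => (χ : G → ℂ) (g ^ k)) = (χ : G → ℂ) from funext h,
        classInner_irr_self χ.2, Nat.cast_one]
    · rw [if_neg h, classInner_irr_ne hirr χ.2 fun hh => h (congrFun hh), Nat.cast_zero]
  have hgroup : ∑ g : G, F g =
      ∑ u ∈ S, ∑ g ∈ Finset.univ.filter (fun g => pp g = u), F g :=
    (Finset.sum_fiberwise_of_maps_to (fun g _ => Finset.mem_filter.2
      ⟨Finset.mem_univ _, by obtain ⟨y, -, -, hk', -⟩ := hpp g; exact hk'⟩) F).symm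
  choose N hN using hsec
  set tot : ℕ := ∑ u ∈ S.attach,
    Nat.card (Subgroup.centralizer ({(u : G)} : Set G)) * N u u.2
  have heq : (Nat.card G : ℂ) * (Nat.card
      {χ : IrrCharacter G // χ ∈ B ∧ ∀ g : G, (χ : G → ℂ) (g ^ k) = (χ : G → ℂ) g} : ℂ) =
        (tot : ℂ) := by
    rw [htotal, hgroup, ← Finset.sum_attach]
    simp only [tot, Nat.cast_sum, Nat.cast_mul]
    exact Finset.sum_congr rfl fun u _ => by rw [hfib u u.2, (hN u u.2).2]
  rw [← Nat.cast_mul] at heq
  have heq' := Nat.cast_injective (R := ℂ) heq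
  have h1S : (1 : G) ∈ S := Finset.mem_filter.2 ⟨Finset.mem_univ _, 0, by simp⟩
  have hle : Nat.card (Subgroup.centralizer ({(1 : G)} : Set G)) * N 1 h1S ≤ tot := by
    show _ ≤ ∑ u ∈ S.attach, _
    rw [← Finset.add_sum_erase S.attach _ (Finset.mem_attach S ⟨1, h1S⟩)]
    exact Nat.le_add_right _ _
  generalize tot = T at heq' hle
  have hC : Nat.card (Subgroup.centralizer ({1} : Set G)) = Nat.card G := by
    rw [show Subgroup.centralizer ({1} : Set G) = ⊤ from eq_top_iff.2 fun g _ =>
      one_mem_centralizer_one g, Subgroup.card_top]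
  rw [hC, ← heq'] at hle
  exact ((hN 1 h1S).1 rfl).trans (Nat.le_of_mul_le_mul_left hle Nat.card_pos)

end CfsgLib.SectionGalois
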