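import Cfsg.Agent.Lib.ModRep.Main
import Cfsg.Agent.Lib.Blk7.SectionCount

/-!
# The regular kernel of a union of blocks, twisted by an automorphism

For a union `A` of blocks and an automorphism `α`, the sum over the `p`-regular `c` of
`∑_{ξ ∈ A} ξ (α c) * conj (ξ c)` is a natural number times the group order: it counts the
Brauer characters of `A` fixed by `α`.
-/

set_option autoImplicit false
set_option linter.unusedSectionVars false
set_option linter.style.haveILetI false

noncomputable section

namespace CfsgLib.SectionGalois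

open Cfsg MonoidAlgebra CfsgLib.Blocks CfsgLib.BrauerPairs CfsgLib.Characters CfsgLib.Blk7
  CfsgLib.ModRep
open scoped Classical ComplexConjugate

universe u

variable {C : Type u} [Group C] [Fintype C] {p : ℕ} [hp : Fact p.Prime] {M : Ideal AlgInt}
  [M.IsMaximal] {hM : IsPModular p M}

theorem algRep_eq_sum {K : Type*} [Field K] {V : Type*} [AddCommGroup V] [Module K V]
    (ρ : C →* Module.End K V) (a : MonoidAlgebra K C) :
    algRep ρ a = ∑ x, a.coeff x • ρ x := by
  induction a using MonoidAlgebra.induction_on with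
  | of g => simp [algRep, coeff_single, Finsupp.single_apply, ite_smul]
  | add x y hx hy => simp [map_add, hx, hy, add_smul, Finset.sum_add_distrib]
  | smul r x hx => rw [map_smul, hx, Finset.smul_sum]; simp [smul_smul]

theorem coeff_eigC_map (α : C ≃* C) (c x : C) (j : ℕ) :
    (eigC (α c) j).coeff (α x) = (eigC c j).coeff x := by
  simp [eigC, zeta, MulEquiv.orderOf_eq, ← map_pow, coeff_single, Finsupp.single_apply,
    α.injective.eq_iff]

theorem modChar_comp {V : Type*} [AddCommGroup V] [Module (ResK M) V]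
    (ρ : C →* Module.End (ResK M) V) (α : C ≃* C) (c : C) :
    modChar hM (ρ.comp α.toMonoidHom) c = modChar hM ρ (α c) := by
  by_cases hc : p ∣ orderOf c
  · rw [modChar_of_singular _ hc, modChar_of_singular _ (by rwa [MulEquiv.orderOf_eq])]
  · rw [modChar_of_regular _ hc, modChar_of_regular _ (by rwa [MulEquiv.orderOf_eq]),
      MulEquiv.orderOf_eq]
    refine Finset.sum_congr rfl fun j _ => ?_
    rw [show zeta (α c) = zeta c by simp [zeta, MulEquiv.orderOf_eq]]
    congr 2
    unfold rankAt
    rw [algRep_eq_sum, algRep_eq_sum]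
    refine congrArg (fun T => Module.finrank (ResK M) (LinearMap.range T)) ?_
    refine Fintype.sum_equiv α.toEquiv _ _ fun x => ?_
    have hloc : ∀ {d : C}, ¬ p ∣ orderOf d → ∀ y,
        (eigC d j).coeff y ∈ lRing hM := fun hd y => isLoc_eigC hd j y
    have hαc : ¬ p ∣ orderOf (α c) := by rwa [MulEquiv.orderOf_eq]
    show (red hM (eigC c j)).coeff x • ρ (α x) = (red hM (eigC (α c) j)).coeff (α x) • ρ (α x)
    congr 1
    rw [red, red, coeff_redFun hM (hloc hc x), coeff_redFun hM (hloc hαc (α x))]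
    exact congrArg _ (Subtype.ext (coeff_eigC_map α c x j).symm)

/-- The kernel of `A` at a regular `c`, as a function. -/
def regKernel (p : ℕ) (A : Set (IrrCharacter C)) (c : C) : C → ℂ :=
  ∑ ξ ∈ Finset.univ.filter (· ∈ A), conj ((ξ : C → ℂ) c) • pRegularPart p (ξ : C → ℂ)

theorem twisted_kernel_sum (hM : IsPModular p M) {A : Set (IrrCharacter C)}
    (hA : BlockClosed M A) (α : C ≃* C) :
    ∃ N : ℕ, (∑ c ∈ Finset.univ.filter (fun c : C => ¬ p ∣ orderOf c),
        ∑ ξ ∈ Finset.univ.filter (· ∈ A), (ξ : C → ℂ) (α c) * conj ((ξ : C → ℂ) c)) =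
          (Nat.card C : ℂ) * N ∧
      ((∀ c, α c = c) → N = Module.finrank ℂ (regSpan p A)) := by
  haveI := BPStar.isAlgClosed_res hM
  obtain ⟨S⟩ := exists_sys (K := ResK M) (G := C)
  set φ : Fin S.s → C → ℂ := fun i => modChar hM (S.rep i) with hφ
  have hli : LinearIndependent ℂ φ := modChar_linearIndependent (hM := hM) S
  have hAc : ∀ ξ η : IrrCharacter C, ξ ∈ Aᶜ → SameBlock M (ξ : C → ℂ) (η : C → ℂ) → η ∈ Aᶜ :=
    fun ξ η hξ hs hη => hξ (hA η ξ hη (SameBlock.symm hM hs))
  set I : Finset (Fin S.s) := Finset.univ.filter fun i => φ i ∈ regSpan p A with hI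
  -- every Brauer character lives in a block
  have hblock : ∀ j, φ j ∈ regSpan p A ∨ φ j ∈ regSpan p Aᶜ := by
    intro j
    obtain ⟨B', hB', hj⟩ := exists_block (hM := hM) S j
    have hj' : φ j ∈ regSpan p B' := by
      show φ j ∈ Submodule.span ℂ _
      rw [span_blockIdx (hM := hM) S hB']
      exact Submodule.subset_span ⟨j, hj, rfl⟩
    obtain ⟨ξ, hξ⟩ := IsPBlock.nonempty hM hB'
    by_cases hξA : ξ ∈ A
    · exact Or.inl (Submodule.span_mono (Set.image_mono fun η hη =>
        hA ξ η hξA ((IsPBlock.mem_iff hM hB' hξ η).1 hη)) hj')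
    · exact Or.inr (Submodule.span_mono (Set.image_mono fun η hη =>
        hAc ξ η hξA ((IsPBlock.mem_iff hM hB' hξ η).1 hη)) hj')
  have hspan : regSpan p A = Submodule.span ℂ (Set.range fun i : I => φ i) := by
    refine le_antisymm (Submodule.span_le.2 ?_) (Submodule.span_le.2 ?_)
    · rintro _ ⟨ξ, hξ, rfl⟩
      have hB' : IsPBlock M (blockOf M (ξ : C → ℂ)) := isPBlock_blockOf ξ
      have h1 : pRegularPart p (ξ : C → ℂ) ∈ regSpan p (blockOf M (ξ : C → ℂ)) :=
        Submodule.subset_span ⟨ξ, mem_blockOf_self hM ξ, rfl⟩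
      have h2 := span_blockIdx (hM := hM) S hB'
      change pRegularPart p (ξ : C → ℂ) ∈ Submodule.span ℂ _ at h1
      rw [h2] at h1
      refine Submodule.span_le.2 ?_ h1
      rintro _ ⟨i, hi, rfl⟩
      have h3 : φ i ∈ regSpan p (blockOf M (ξ : C → ℂ)) := by
        show φ i ∈ Submodule.span ℂ _
        rw [h2]
        exact Submodule.subset_span ⟨i, hi, rfl⟩
      have h4 : φ i ∈ regSpan p A := Submodule.span_mono (Set.image_mono fun η hη =>
        hA ξ η hξ ((IsPBlock.mem_iff hM hB' (mem_blockOf_self hM ξ) η).1 hη)) h3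
      exact Submodule.subset_span ⟨⟨i, Finset.mem_filter.2 ⟨Finset.mem_univ _, h4⟩⟩, rfl⟩
    · rintro _ ⟨i, rfl⟩
      exact (Finset.mem_filter.1 i.2).2
  have hcardI : Module.finrank ℂ (regSpan p A) = I.card := by
    rw [hspan, finrank_span_eq_card (b := fun i : I => φ i) (hli.comp _ Subtype.val_injective),
      Fintype.card_coe]
  -- expand the kernel
  have hK : ∀ c, ∃ a : I → ℂ, ∑ i, a i • φ i = regKernel p A c := by
    intro c
    refine (Submodule.mem_span_range_iff_exists_fun ℂ).1 ?_
    rw [← hspan]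
    exact Submodule.sum_mem _ fun ξ hξ => Submodule.smul_mem _ _
      (Submodule.subset_span ⟨ξ, (Finset.mem_filter.1 hξ).2, rfl⟩)
  choose a ha using hK
  set R : Finset C := Finset.univ.filter fun c : C => ¬ p ∣ orderOf c with hR
  set P : (C → ℂ) → C → ℂ :=
    fun f => (Nat.card C : ℂ)⁻¹ • ∑ c ∈ R, f c • regKernel p A c with hP
  have hPval : ∀ ψ : IrrCharacter C,
      P (pRegularPart p (ψ : C → ℂ)) = if ψ ∈ A then pRegularPart p (ψ : C → ℂ) else 0 := by
    intro ψ
    have hinner : ∀ ξ : IrrCharacter C,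
        classInner (pRegularPart p (ψ : C → ℂ)) (ξ : C → ℂ) =
          (Nat.card C : ℂ)⁻¹ * ∑ c ∈ R, (ψ : C → ℂ) c * conj ((ξ : C → ℂ) c) := by
      intro ξ
      rw [classInner, hR, Finset.sum_filter]
      congr 1
      refine Finset.sum_congr rfl fun c _ => ?_
      rw [pRegularPart_apply]
      by_cases hc : IsPRegular p c
      · rw [if_pos hc, if_pos (show ¬ p ∣ orderOf c from hc)]
      · rw [if_neg hc, if_neg (show ¬¬ p ∣ orderOf c from hc), zero_mul]
    have hzero : ∀ ξ : IrrCharacter C, ¬ SameBlock M (ψ : C → ℂ) (ξ : C → ℂ) →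
        classInner (pRegularPart p (ψ : C → ℂ)) (ξ : C → ℂ) = 0 := fun ξ h => by
      rw [hinner, sum_regular_eq_zero_of_not_sameBlock hM h, mul_zero]
    funext x
    have hx : P (pRegularPart p (ψ : C → ℂ)) x = ∑ ξ ∈ Finset.univ.filter (· ∈ A),
        classInner (pRegularPart p (ψ : C → ℂ)) (ξ : C → ℂ) * pRegularPart p (ξ : C → ℂ) x := by
      simp only [hP, regKernel, Pi.smul_apply, Finset.sum_apply, smul_eq_mul, Finset.mul_sum,
        hinner, Finset.sum_mul]
      rw [Finset.sum_comm]
      refine Finset.sum_congr rfl fun ξ _ => Finset.sum_congr rfl fun c hc => ?_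
      rw [pRegularPart_apply, pRegularPart_apply,
        if_pos (show IsPRegular p c from (Finset.mem_filter.1 hc).2)]
      ring
    rw [hx]
    split_ifs with hψ
    · have hall : pRegularPart p (ψ : C → ℂ) x = ∑ ξ : IrrCharacter C,
          classInner (pRegularPart p (ψ : C → ℂ)) (ξ : C → ℂ) * (ξ : C → ℂ) x := by
        have hcf : IsClassFunction C (pRegularPart p (ψ : C → ℂ)) :=
          regSpan_classFunction (A := A) (Submodule.subset_span ⟨ψ, hψ, rfl⟩)
        conv_lhs => rw [classFunction_eq_sum hcf]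
        simp [Finset.sum_apply]
      by_cases hxs : IsPRegular p x
      · rw [hall, Finset.sum_filter]
        refine Finset.sum_congr rfl fun ξ _ => ?_
        split_ifs with hξ
        · rw [pRegularPart_apply, if_pos hxs]
        · rw [hzero ξ fun h => hξ (hA ψ ξ hψ h), zero_mul]
      · rw [Finset.sum_eq_zero fun ξ _ => by rw [pRegularPart_apply, if_neg hxs, mul_zero],
          pRegularPart_apply, if_neg hxs]
    · rw [Pi.zero_apply]
      refine Finset.sum_eq_zero fun ξ hξ => ?_
      rw [hzero ξ fun h => hψ (hA ξ ψ (Finset.mem_filter.1 hξ).2 (SameBlock.symm hM h)), zero_mul]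
  let Pl : (C → ℂ) →ₗ[ℂ] (C → ℂ) :=
    { toFun := P
      map_add' := fun f f' => by
        simp only [hP, Pi.add_apply, add_smul, Finset.sum_add_distrib, smul_add]
      map_smul' := fun r f => by
        simp only [hP, Pi.smul_apply, smul_eq_mul, RingHom.id_apply, mul_smul, ← Finset.smul_sum]
        exact smul_comm _ r _ }
  have hPA : ∀ f ∈ regSpan p A, P f = f := by
    intro f hf
    refine LinearMap.eqOn_span (f := Pl) (g := LinearMap.id) ?_ hf
    rintro _ ⟨ψ, hψ, rfl⟩
    exact (hPval ψ).trans (if_pos hψ)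
  have hPAc : ∀ f ∈ regSpan p Aᶜ, P f = 0 := by
    intro f hf
    refine LinearMap.eqOn_span (f := Pl) (g := 0) ?_ hf
    rintro _ ⟨ψ, hψ, rfl⟩
    exact (hPval ψ).trans (if_neg hψ)
  have hdual : ∀ (j : Fin S.s) (i : I), (Nat.card C : ℂ)⁻¹ * ∑ c ∈ R, φ j c * a c i =
      if (i : Fin S.s) = j then 1 else 0 := by
    intro j
    have hexp : P (φ j) = ∑ i : I, ((Nat.card C : ℂ)⁻¹ * ∑ c ∈ R, φ j c * a c i) • φ i := by
      simp only [hP, ← ha, Finset.smul_sum, smul_smul, Finset.mul_sum, Finset.sum_smul]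
      rw [Finset.sum_comm]
    have hind := Fintype.linearIndependent_iff.1 (hli.comp _ (Subtype.val_injective (p := (· ∈ I))))
    have hr : P (φ j) = ∑ i : I, (if (i : Fin S.s) = j then (1 : ℂ) else 0) • φ i := by
      rcases hblock j with h | h
      · rw [hPA _ h, Finset.sum_eq_single ⟨j, Finset.mem_filter.2 ⟨Finset.mem_univ _, h⟩⟩
          (fun i _ hi => by rw [if_neg fun h' => hi (Subtype.ext h'), zero_smul]) (by simp)]
        simp
      · rw [hPAc _ h, Finset.sum_eq_zero fun i _ => ?_]
        rw [if_neg, zero_smul]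
        intro hij
        have h0 : φ j = 0 := by
          rw [← Submodule.mem_bot ℂ, ← regSpan_disjoint hM (A := A) (A' := Aᶜ)
            fun χ hχ η hη hs => hη (hA χ η hχ hs)]
          exact ⟨hij ▸ (Finset.mem_filter.1 i.2).2, h⟩
        exact hli.ne_zero j h0
    intro i
    refine sub_eq_zero.1 (hind (fun i' : I => (Nat.card C : ℂ)⁻¹ * ∑ c ∈ R, φ j c * a c i' -
      if (i' : Fin S.s) = j then 1 else 0) ?_ i)
    simp only [Function.comp, sub_smul, Finset.sum_sub_distrib]
    rw [← hexp, ← hr, sub_self]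
  -- the permutation
  have hperm : ∀ i, ∃ j, ∀ c, φ i (α c) = φ j c := by
    intro i
    have hs : IsSimp ((S.rep i).comp α.toMonoidHom) :=
      ⟨(S.isSimp_rep i).1, fun W hW => (S.isSimp_rep i).2 W fun g v hv => by
        have := hW (α.symm g) v hv
        simpa using this⟩
    obtain ⟨j, L, hL⟩ := S.exists_equiv hs
    refine ⟨j, fun c => ?_⟩
    rw [hφ]
    simp only []
    rw [← modChar_comp, modChar_equiv L hL]
  choose π hπ using hperm
  refine ⟨(Finset.univ.filter fun i : I => (i : Fin S.s) = π i).card, ?_, fun hid => ?_⟩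
  · calc _ = ∑ c ∈ R, regKernel p A c (α c) := by
          refine Finset.sum_congr rfl fun c hc => ?_
          simp only [regKernel, Finset.sum_apply, Pi.smul_apply, smul_eq_mul]
          refine Finset.sum_congr rfl fun ξ _ => ?_
          rw [pRegularPart_apply, if_pos (show IsPRegular p (α c) by
            rw [IsPRegular, MulEquiv.orderOf_eq]; exact (Finset.mem_filter.1 hc).2)]
          ring
      _ = ∑ i : I, (Nat.card C : ℂ) * ((Nat.card C : ℂ)⁻¹ * ∑ c ∈ R, φ (π i) c * a c i) := by
          simp only [← ha, Finset.sum_apply, Pi.smul_apply, smul_eq_mul, hπ]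
          rw [Finset.sum_comm]
          refine Finset.sum_congr rfl fun i _ => ?_
          rw [mul_inv_cancel_left₀ (Nat.cast_ne_zero.2 Nat.card_pos.ne')]
          exact Finset.sum_congr rfl fun c _ => mul_comm _ _
      _ = _ := by
          simp only [hdual, ← Finset.mul_sum, Finset.sum_boole]
  · rw [hcardI]
    have : ∀ i : I, (i : Fin S.s) = π i := fun i =>
      hli.injective (funext fun c => by rw [← hπ i c, hid c])
    rw [Finset.filter_true_of_mem fun i _ => this i, Finset.card_univ, Fintype.card_coe]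

end CfsgLib.SectionGalois
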